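import Groth.Agent.InjQCoh7.Main
import Groth.Agent.ExtShX.Injective
import Groth.Agent.QCoh.DevissageIdeal
import Groth.Agent.QCoh.Qcqs
import Groth.Agent.AmpleVan.Kill

/-!
# Quasi-coherent modules on a Noetherian scheme embed into quasi-coherent injective `O_X`-modules
-/

set_option autoImplicit false
set_option linter.style.haveILetI false
set_option backward.isDefEq.respectTransparency false
set_option backward.isDefEq.respectTransparency.types false

universe u

open CategoryTheory CategoryTheory.Limits AlgebraicGeometry TopologicalSpace Opposite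

attribute [local instance] Groth.Agent.QCoh.hasFiniteBiproducts

namespace Groth.Agent.InjQCoh7

theorem injective_of_ringEquiv {A B : Type u} [CommRing A] [CommRing B] (σ : A ≃+* B) {E T : Type u}
    [AddCommGroup E] [Module A E] [Module.Injective A E] [AddCommGroup T] [Module B T] (δ : T ≃+ E)
    (hδ : ∀ a t, δ (σ a • t) = a • δ t) : Module.Injective B T := by
  refine Module.Baer.injective fun J g => ?_
  let g' : Ideal.comap (σ : A →+* B) J →ₗ[A] E :=
    { toFun := fun a => δ (g ⟨σ a.1, a.2⟩)
      map_add' := fun a b => by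
        rw [← map_add, ← map_add]
        exact congrArg δ (congrArg g (Subtype.ext (map_add σ a.1 b.1)))
      map_smul' := fun r a => by
        rw [RingHom.id_apply, ← hδ, ← map_smul]
        exact congrArg δ (congrArg g (Subtype.ext (map_mul σ r a.1))) }
  obtain ⟨h, hh⟩ := LC.exists_extension (Ideal.comap (σ : A →+* B) J).subtype Subtype.val_injective g'
  refine ⟨LinearMap.toSpanSingleton B T (δ.symm (h 1)), fun z hz => δ.injective ?_⟩
  obtain ⟨a, rfl⟩ := σ.surjective z
  rw [LinearMap.toSpanSingleton_apply, hδ, δ.apply_symm_apply, ← map_smul, smul_eq_mul, mul_one]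
  exact LinearMap.congr_fun hh ⟨a, hz⟩

/-- On a Noetherian affine scheme the sheaf of an injective module is injective. -/
theorem injective_tilde {R : CommRingCat.{u}} [IsNoetherianRing R] (M : ModuleCat.{u} R) [Injective M] :
    Injective (tilde M) := by
  haveI : Module.Injective R M := Module.injective_module_of_injective_object R M
  haveI : IsLocallyNoetherian (Spec R) := inferInstance
  refine injective_of_affine (tilde M) (QCoh.isQCoh_spec_iff.2 ⟨M, ⟨Iso.refl _⟩⟩)
    fun x => ⟨⊤, isAffineOpen_top _, trivial, ?_⟩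
  haveI : Injective (moduleSpecΓFunctor.obj (tilde M)) := Injective.of_iso (tilde.toTildeΓNatIso.app M) ‹_›
  haveI : Module.Injective R (moduleSpecΓFunctor.obj (tilde M)) :=
    Module.injective_module_of_injective_object R _
  exact injective_of_ringEquiv (Scheme.ΓSpecIso R).symm.commRingCatIsoToRingEquiv
    (E := (moduleSpecΓFunctor.obj (tilde M))) (T := Γ(tilde M, ⊤)) (AddEquiv.refl _) fun a t => by
      show (Scheme.ΓSpecIso R).inv a • t = (_ : Γ(tilde M, ⊤))
      rw [Scheme.Modules.smul_Spec_def]
      exact congrArg (· • t) (QCoh.ringMap_id _ _).symm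

/-- A quasi-coherent module on a Noetherian scheme embeds into a quasi-coherent injective module. -/
theorem exists_mono_injective {X : Scheme.{u}} [IsNoetherian X] {M : X.Modules} (hM : Coh.IsQCoh M) :
    ∃ (E : X.Modules) (f : M ⟶ E), Mono f ∧ Coh.IsQCoh E ∧ Injective E := by
  obtain ⟨s, hs, hcov⟩ := isCompact_iff_finite_and_eq_biUnion_affineOpens.mp
    (show IsCompact ((⊤ : X.Opens) : Set X) by simpa using isCompact_univ)
  haveI := hs.to_subtype
  haveI := Fintype.ofFinite s
  have hcov' : ∀ x : X, ∃ i : s, x ∈ i.1.1 := fun x => by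
    have hx : x ∈ (⊤ : X.Opens) := trivial
    rw [hcov] at hx
    obtain ⟨V, hV, hxV⟩ := by simpa only [Opens.mem_iSup, exists_prop] using hx
    exact ⟨⟨V, hV⟩, hxV⟩
  let j := fun i : s => i.1.2.fromSpec
  haveI : ∀ i : s, IsNoetherianRing Γ(X, i.1.1) := fun i => IsLocallyNoetherian.component_noetherian i.1
  haveI : ∀ i : s, QuasiCompact (j i) := fun i => by
    rw [← (j i).liftCoborder_ι]
    infer_instance
  have htilde : ∀ i : s, ∃ (I : ModuleCat.{u} Γ(X, i.1.1)) (φ : M.restrict (j i) ⟶ tilde I),
      Mono φ ∧ Injective I := fun i => by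
    let N := moduleSpecΓFunctor.obj (M.restrict (j i))
    haveI := (isQuasicoherent_iff_isIso_fromTildeΓ _).1 (QCoh.isQCoh_restrict (j i) hM)
    let e : tilde N ≅ M.restrict (j i) := asIso (M.restrict (j i)).fromTildeΓ
    haveI : Mono (tilde.map (Injective.ι N)) := QCoh.tildeMap_mono _
    exact ⟨Injective.under N, e.inv ≫ tilde.map (Injective.ι N), mono_comp _ _, inferInstance⟩
  choose I φ hφ hI using htilde
  let T : s → X.Modules := fun i => (Scheme.Modules.pushforward (j i)).obj (tilde (I i))
  haveI : ∀ i, Injective (T i) := fun i => by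
    haveI := hI i
    haveI := injective_tilde (I i)
    exact Injective.injective_of_adjoint (Scheme.Modules.restrictAdjunction (j i)) (tilde (I i))
  refine ⟨⨁ T, biproduct.lift fun i => (Scheme.Modules.restrictAdjunction (j i)).homEquiv M _ (φ i), ?_,
    QCoh.isQCoh_biproduct T fun i =>
      QCoh.isQCoh_pushforward _ (QCoh.isQCoh_spec_iff.2 ⟨I i, ⟨Iso.refl _⟩⟩),
    inferInstance⟩
  refine Preadditive.mono_of_cancel_zero _ fun {Z} g hg => ?_
  refine H23.ModLoc.hom_ext_of_locally g 0 fun x => ?_
  obtain ⟨i, hi⟩ := hcov' x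
  refine ⟨i.1.1, hi, ?_⟩
  have h : g ≫ (Scheme.Modules.restrictAdjunction (j i)).homEquiv M _ (φ i) = 0 := by
    have := congrArg (· ≫ biproduct.π T i) hg
    rwa [Category.assoc, biproduct.lift_π, zero_comp] at this
  have h2 : (Scheme.Modules.restrictFunctor (j i)).map g = 0 := by
    haveI := hφ i
    rw [← cancel_mono (φ i), zero_comp]
    apply ((Scheme.Modules.restrictAdjunction (j i)).homEquiv Z _).injective
    rw [Adjunction.homEquiv_naturality_left, h, Adjunction.homEquiv_unit, Functor.map_zero, comp_zero]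
  rw [Functor.map_zero]
  refine Scheme.Modules.hom_ext _ _ fun W => ?_
  have h3 : i.1.1.ι ''ᵁ W ≤ (j i) ''ᵁ ⊤ := by
    rw [Scheme.Hom.image_top_eq_opensRange, i.1.2.opensRange_fromSpec]
    exact i.1.1.ι_image_le W
  refine AddCommGrpCat.hom_ext (AddMonoidHom.ext fun z => ?_)
  have h5 : ∀ (V : X.Opens) (_ : V ≤ (j i) ''ᵁ ⊤) (z : Γ(Z, V)), g.app V z = 0 := fun V hV => by
    have e : (j i) ''ᵁ ((j i) ⁻¹ᵁ V) = V := by
      rw [Scheme.Hom.image_preimage_eq_opensRange_inf, inf_eq_right, ← Scheme.Hom.image_top_eq_opensRange]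
      exact hV
    have key : ∀ z : Γ(Z, (j i) ''ᵁ ((j i) ⁻¹ᵁ V)), g.app ((j i) ''ᵁ ((j i) ⁻¹ᵁ V)) z = 0 := fun z =>
      congr($(congrArg (fun q : (Scheme.Modules.restrictFunctor (j i)).obj Z ⟶
        (Scheme.Modules.restrictFunctor (j i)).obj M => Scheme.Modules.Hom.app q ((j i) ⁻¹ᵁ V)) h2) z)
    rwa [e] at key
  exact h5 _ h3 z

end Groth.Agent.InjQCoh7
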