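import Groth.Agent.InjQCoh7.Embed
import Groth.Agent.H1LCZ.QCoh
import Groth.Agent.QCoh.DevissageSum

/-!
# Injective objects of `QCoh` on Noetherian schemes and sections with supports
-/

set_option autoImplicit false
set_option linter.style.haveILetI false
set_option backward.isDefEq.respectTransparency false
set_option backward.isDefEq.respectTransparency.types false

universe u

open CategoryTheory CategoryTheory.Limits AlgebraicGeometry TopologicalSpace Opposite

namespace Groth.Agent.InjQCoh7

variable {X : Scheme.{u}}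

/-- An injective object of `QCoh` on a Noetherian scheme is an injective `O_X`-module. -/
theorem injective_obj [IsNoetherian X]
    (J : ObjectProperty.FullSubcategory (fun M : X.Modules => Coh.IsQCoh M)) (hJ : Injective J) :
    Injective J.obj := by
  haveI := hJ
  obtain ⟨E, f, hf, hE, hEi⟩ := exists_mono_injective J.property
  let E' : ObjectProperty.FullSubcategory (fun M : X.Modules => Coh.IsQCoh M) := ⟨E, hE⟩
  let f' : J ⟶ E' := ObjectProperty.homMk f
  haveI : Mono f' :=
    (ObjectProperty.ι (fun M : X.Modules => Coh.IsQCoh M)).mono_of_mono_map (show Mono f from hf)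
  let R : Retract J.obj E :=
    { i := f
      r := (Injective.factorThru (𝟙 J) f').hom
      retract := congrArg (fun φ => (ObjectProperty.ι _).map φ) (Injective.comp_factorThru (𝟙 J) f') }
  haveI := hEi
  exact R.injective

/-- Sections with supports of an injective quasi-coherent module on a locally Noetherian scheme. -/
theorem injective_gammaZ {U : Scheme.{u}} [IsLocallyNoetherian X] (j : U ⟶ X) [IsOpenImmersion j]
    (I : X.Modules) (hI : Coh.IsQCoh I) [Injective I] : Injective ((DCoh.gammaZ j).obj I) := by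
  haveI : QuasiCompact j := by
    rw [← j.liftCoborder_ι]
    infer_instance
  let u := (Scheme.Modules.restrictAdjunction j).unit.app I
  have hq : Coh.IsQCoh (kernel u) :=
    QCoh.isQCoh_kernel hI (QCoh.isQCoh_pushforward j (QCoh.isQCoh_restrict j hI)) u
  show Injective (kernel u)
  refine injective_of_affine _ hq fun x => ?_
  obtain ⟨_, ⟨V, hV, rfl⟩, hxV, -⟩ :=
    X.isBasis_affineOpens.exists_subset_of_mem_open (Set.mem_univ x) isOpen_univ
  have hV' : IsAffineOpen V := hV
  refine ⟨V, hV', hxV, ?_⟩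
  haveI := IsLocallyNoetherian.component_noetherian (X := X) ⟨V, hV'⟩
  haveI := ExtShX.injective_sections (G := I) hV'
  have hcl : IsClosed (hV'.fromSpec.base ⁻¹' (j.opensRange : Set X)ᶜ) :=
    j.opensRange.2.isClosed_compl.preimage hV'.fromSpec.continuous
  obtain ⟨a, ha⟩ := (PrimeSpectrum.isClosed_iff_zeroLocus_ideal _).1 hcl
  have hmem : ∀ z (hz : z ∈ V), a ≤ (hV'.primeIdealOf ⟨z, hz⟩).asIdeal ↔ z ∉ j.opensRange := fun z hz => by
    rw [← SetLike.coe_subset_coe, ← PrimeSpectrum.mem_zeroLocus, ← ha]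
    show hV'.fromSpec.base (hV'.primeIdealOf ⟨z, hz⟩) ∈ (j.opensRange : Set X)ᶜ ↔ _
    rw [hV'.fromSpec_primeIdealOf]
    rfl
  haveI := LC.injective_torsion (I := Γ(I, V)) a
  let T : Submodule Γ(X, V) Γ(I, V) := tors a
  let k : Γ(kernel u, V) →ₗ[Γ(X, V)] Γ(I, V) :=
    { toFun := (kernel.ι u).app V
      map_add' := map_add ((kernel.ι u).app V).hom
      map_smul' := fun r m => Scheme.Modules.Hom.app_smul (kernel.ι u) r m }
  have hu : ∀ e : Γ(I, V), u.app V e = 0 ↔
      ∀ z (hz : z ∈ V), z ∈ j.opensRange → I.presheaf.germ V z hz e = 0 := by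
    intro e
    have happ : u.app V e = 0 ↔ I.presheaf.map (homOfLE (j.image_preimage_le V)).op e = 0 := Iff.rfl
    have hle : ∀ z, z ∈ j ''ᵁ (j ⁻¹ᵁ V) ↔ z ∈ j.opensRange ∧ z ∈ V := fun z => by
      rw [Scheme.Hom.image_preimage_eq_opensRange_inf]
      rfl
    rw [happ]
    refine ⟨fun h z hz hzU => ?_, fun h => TopCat.Presheaf.section_ext ⟨I.presheaf, I.isSheaf⟩ _ _ 0 fun z hz => ?_⟩
    · rw [← TopCat.Presheaf.germ_res_apply I.presheaf (homOfLE (j.image_preimage_le V)) z ((hle z).2 ⟨hzU, hz⟩) e, h,
        map_zero]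
    · refine Eq.trans ?_ (map_zero _).symm
      refine (TopCat.Presheaf.germ_res_apply I.presheaf (homOfLE (j.image_preimage_le V)) z hz e).trans ?_
      exact h z ((hle z).1 hz).2 ((hle z).1 hz).1
  have hrange : LinearMap.range k = T := by
    refine le_antisymm ?_ fun e he => ?_
    · rintro _ ⟨m, rfl⟩
      have h0 : u.app V ((kernel.ι u).app V m) = 0 := congr(($(kernel.condition u)).app V m)
      let Ann : Ideal Γ(X, V) := LinearMap.ker (LinearMap.toSpanSingleton Γ(X, V) Γ(I, V) ((kernel.ι u).app V m))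
      have hrad : a ≤ Ann.radical := fun r hr => by
        obtain ⟨n, hn⟩ := QCoh.exists_pow_smul_eq_zero hI hV' r ((kernel.ι u).app V m)
          (TopCat.Presheaf.section_ext ⟨I.presheaf, I.isSheaf⟩ _ _ 0 fun z hz => by
            refine Eq.trans ?_ (map_zero _).symm
            refine (TopCat.Presheaf.germ_res_apply I.presheaf (homOfLE (X.basicOpen_le r)) z hz _).trans ?_
            refine (hu _).1 h0 z (X.basicOpen_le r hz) (by_contra fun hzU => ?_)
            exact (QCoh.mem_basicOpen_iff_notMem hV' (X.basicOpen_le r hz) r).1 hz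
              ((hmem z (X.basicOpen_le r hz)).2 hzU hr))
        exact ⟨n, hn⟩
      obtain ⟨M, hM⟩ := Ideal.exists_pow_le_of_le_radical_of_fg hrad (IsNoetherian.noetherian a)
      exact (LC.mem_iSup_torsionBySet a _).2 ⟨M, fun r hr => hM hr⟩
    · obtain ⟨M, hM⟩ := (LC.mem_iSup_torsionBySet a e).1 he
      have h0 : u.app V e = 0 := (hu e).2 fun z hz hzU => by
        obtain ⟨r, hra, hrz⟩ := Set.not_subset.1 (fun hle => (hmem z hz).1 hle hzU)
        have h1 := congrArg (I.presheaf.germ V z hz) (hM (r ^ M) (Ideal.pow_mem_pow hra M))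
        rw [QCoh.germ_smul', map_pow, map_zero] at h1
        exact (((X.mem_basicOpen r z hz).1
          ((QCoh.mem_basicOpen_iff_notMem hV' hz r).2 hrz)).pow M).smul_eq_zero.1 h1
      obtain ⟨w, hw⟩ := QCoh.exists_kernel_lift u V e h0
      exact ⟨w, hw⟩
  let eq : Γ(kernel u, V) ≃ₗ[Γ(X, V)] T :=
    (LinearEquiv.ofInjective k (QCoh.app_injective (kernel.ι u) V)).trans (LinearEquiv.ofEq _ _ hrange)
  exact injective_of_ringEquiv (RingEquiv.refl Γ(X, V)) (E := T) eq.toAddEquiv fun r t => eq.map_smul r t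

end Groth.Agent.InjQCoh7
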